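import Groth.Agent.P1PowMap.Mult
import Mathlib.AlgebraicGeometry.Morphisms.UnderlyingMap
import Mathlib.CategoryTheory.Limits.Shapes.WidePullbacks

/-!
# A finite surjective morphism from a power of the projective line to projective space
-/

set_option autoImplicit false
set_option linter.style.haveILetI false
set_option linter.unusedSectionVars false
set_option backward.isDefEq.respectTransparency false
set_option backward.isDefEq.respectTransparency.types false

universe u

open CategoryTheory CategoryTheory.Limits AlgebraicGeometry TopologicalSpace Opposite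

noncomputable section

namespace Groth.Agent.P1PowMap

open Groth.Agent Groth.Agent.ProjPt Groth.Agent.SegreX

instance (k : ℕ) : IsProper (CohB1.ProjSpace.toSpec k (ULift.{u} ℤ)) := PnCoh.Chow.isProper_toSpec k _

/-- The unique point of `P^0`. -/
def pt0 : Spec (CommRingCat.of (ULift.{u} ℤ)) ⟶ PZ.{u} 0 :=
  ptS (fun _ => 1) 0 isUnit_one

theorem isFinite_surjective_pt0 : IsFinite pt0.{u} ∧ Surjective pt0.{u} := by
  refine ⟨?_, ⟨fun y => ?_⟩⟩
  · haveI : IsClosedImmersion (pt0.{u} ≫ CohB1.ProjSpace.toSpec 0 (ULift.{u} ℤ)) := by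
      rw [specULiftZIsTerminal.hom_ext (pt0.{u} ≫ CohB1.ProjSpace.toSpec 0 (ULift.{u} ℤ)) (𝟙 _)]
      infer_instance
    haveI : IsClosedImmersion pt0.{u} := IsClosedImmersion.of_comp _ (CohB1.ProjSpace.toSpec 0 (ULift.{u} ℤ))
    infer_instance
  · let η := (PZ.{u} 0).fromSpecResidueField y
    obtain ⟨o⟩ : Nonempty (Spec ((PZ.{u} 0).residueField y)) := ⟨IsLocalRing.closedPoint _⟩
    obtain ⟨k, hk⟩ := exists_mem_chart y
    have hr : Set.range η ⊆ Set.range (chart 0 k) := by
      rintro _ ⟨o', rfl⟩
      rw [Scheme.fromSpecResidueField_apply]; exact hk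
    let r := IsOpenImmersion.lift (chart.{u} 0 k) η hr
    have he : η = specULiftZIsTerminal.from _ ≫ pt0.{u} := by
      rw [← IsOpenImmersion.lift_fac (chart.{u} 0 k) η hr, chart_eq_ptS r, pt0, comp_ptS]
      obtain rfl : k = 0 := Fin.ext (by omega)
      congr 1
      funext l
      obtain rfl : l = 0 := Fin.ext (by omega)
      rw [coords_self, map_one]
    exact ⟨specULiftZIsTerminal.from _ o, by
      rw [← Scheme.Hom.comp_apply, ← he]; exact Scheme.fromSpecResidueField_apply y o⟩

variable (X : Scheme.{u})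

/-- The projection to the space over the integers. -/
abbrev pr (k : ℕ) : CohB1.ProjSpaceOver k X ⟶ PZ.{u} k := pullback.fst _ _

theorem pr_toBase (k : ℕ) :
    pr X k ≫ CohB1.ProjSpace.toSpec k (ULift.{u} ℤ) =
      CohB1.ProjSpaceOver.toBase k X ≫ specULiftZIsTerminal.from X :=
  specULiftZIsTerminal.hom_ext _ _

/-- A point of projective space over `X`. -/
abbrev mk {T : Scheme.{u}} {k : ℕ} (a : T ⟶ PZ.{u} k) (b : T ⟶ X) : T ⟶ CohB1.ProjSpaceOver k X :=
  pullback.lift a b (specULiftZIsTerminal.hom_ext _ _)

theorem hom_ext' {T : Scheme.{u}} {k : ℕ} (f g : T ⟶ CohB1.ProjSpaceOver k X)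
    (h1 : f ≫ pr X k = g ≫ pr X k)
    (h2 : f ≫ CohB1.ProjSpaceOver.toBase k X = g ≫ CohB1.ProjSpaceOver.toBase k X) : f = g :=
  pullback.hom_ext h1 h2

/-- One step. -/
theorem exists_step (n : ℕ) :
    ∃ ν : pullback (CohB1.ProjSpaceOver.toBase 1 X) (CohB1.ProjSpaceOver.toBase n X) ⟶
        CohB1.ProjSpaceOver (n + 1) X,
      IsFinite ν ∧ Surjective ν ∧
        ν ≫ CohB1.ProjSpaceOver.toBase (n + 1) X = pullback.snd _ _ ≫ CohB1.ProjSpaceOver.toBase n X := by
  let Q := pullback (CohB1.ProjSpaceOver.toBase 1 X) (CohB1.ProjSpaceOver.toBase n X)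
  let μ := mult.{u} n 1
  haveI : IsFinite μ := isFinite_mult n 1
  haveI : Surjective μ := surjective_mult n 1
  let T := pullback μ (pr X (n + 1))
  let t2 : T ⟶ CohB1.ProjSpaceOver (n + 1) X := pullback.snd _ _
  let tp : T ⟶ PP.{u} n 1 := pullback.fst _ _
  let tX : T ⟶ X := t2 ≫ CohB1.ProjSpaceOver.toBase (n + 1) X
  let q : Q ⟶ PP.{u} n 1 :=
    pullback.lift (pullback.snd _ _ ≫ pr X n) (pullback.fst _ _ ≫ pr X 1) (specULiftZIsTerminal.hom_ext _ _)
  let θ : Q ⟶ T := pullback.lift q (mk X (q ≫ μ) (pullback.snd _ _ ≫ CohB1.ProjSpaceOver.toBase n X))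
    (pullback.lift_fst _ _ _).symm
  let κ : T ⟶ Q := pullback.lift (mk X (tp ≫ pullback.snd _ _) tX) (mk X (tp ≫ pullback.fst _ _) tX)
    ((pullback.lift_snd _ _ _).trans (pullback.lift_snd _ _ _).symm)
  have h1 : θ ≫ t2 ≫ pr X (n + 1) = q ≫ μ := by simp [θ, t2]
  have h2 : θ ≫ t2 ≫ CohB1.ProjSpaceOver.toBase (n + 1) X =
      pullback.snd _ _ ≫ CohB1.ProjSpaceOver.toBase n X := by
    rw [← Category.assoc, show θ ≫ t2 = _ from pullback.lift_snd _ _ _]
    exact pullback.lift_snd _ _ _
  have hθtp : θ ≫ tp = q := pullback.lift_fst _ _ _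
  have hκ1 : κ ≫ pullback.fst _ _ = mk X (tp ≫ pullback.snd _ _) tX := pullback.lift_fst _ _ _
  have hκ2 : κ ≫ pullback.snd _ _ = mk X (tp ≫ pullback.fst _ _) tX := pullback.lift_snd _ _ _
  have e1 : θ ≫ κ = 𝟙 Q := by
    refine pullback.hom_ext ?_ ?_
    · rw [Category.assoc, hκ1, Category.id_comp]
      refine hom_ext' X _ _ ?_ ?_
      · rw [Category.assoc, pullback.lift_fst, reassoc_of% hθtp]; exact pullback.lift_snd _ _ _
      · rw [Category.assoc]
        erw [pullback.lift_snd]
        exact h2.trans pullback.condition.symm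
    · rw [Category.assoc, hκ2, Category.id_comp]
      refine hom_ext' X _ _ ?_ ?_
      · rw [Category.assoc, pullback.lift_fst, reassoc_of% hθtp]; exact pullback.lift_fst _ _ _
      · rw [Category.assoc]
        erw [pullback.lift_snd]
        exact h2
  have hκq : κ ≫ q = tp := by
    refine pullback.hom_ext ?_ ?_
    · rw [Category.assoc, pullback.lift_fst, reassoc_of% hκ2]; exact pullback.lift_fst _ _ _
    · rw [Category.assoc, pullback.lift_snd, reassoc_of% hκ1]; exact pullback.lift_fst _ _ _
  have e2 : κ ≫ θ = 𝟙 T := by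
    refine pullback.hom_ext ?_ ?_
    · rw [Category.assoc, hθtp, hκq, Category.id_comp]
    · rw [Category.assoc, Category.id_comp]
      refine hom_ext' X _ _ ?_ ?_
      · rw [Category.assoc, Category.assoc, h1, reassoc_of% hκq]
        exact pullback.condition
      · rw [Category.assoc, Category.assoc, h2, reassoc_of% hκ2]
        exact pullback.lift_snd _ _ _
  haveI : IsIso θ := ⟨κ, e1, e2⟩
  haveI : IsFinite t2 := MorphismProperty.pullback_snd (P := @IsFinite) _ _ inferInstance
  haveI : Surjective t2 := MorphismProperty.pullback_snd (P := @Surjective) _ _ inferInstance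
  exact ⟨θ ≫ t2, inferInstance, inferInstance, by rw [Category.assoc]; exact h2⟩

/-- The power of the projective line. -/
abbrev pow (n : ℕ) : Scheme.{u} :=
  widePullback X (fun _ : Fin n => CohB1.ProjSpaceOver 1 X) (fun _ => CohB1.ProjSpaceOver.toBase 1 X)

/-- A finite surjective morphism from a power of the projective line to projective space. -/
theorem exists_finite_surjective : ∀ n : ℕ,
    ∃ φ : pow X n ⟶ CohB1.ProjSpaceOver n X, IsFinite φ ∧ Surjective φ ∧
      φ ≫ CohB1.ProjSpaceOver.toBase n X = WidePullback.base (fun _ => CohB1.ProjSpaceOver.toBase 1 X) := by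
  intro n
  induction n with
  | zero =>
    obtain ⟨hf, hs⟩ := isFinite_surjective_pt0.{u}
    haveI := hf
    haveI := hs
    let b : pow X 0 ⟶ X := WidePullback.base _
    haveI : IsIso b := ⟨WidePullback.lift (𝟙 X) (fun j => j.elim0) (fun j => j.elim0),
      WidePullback.hom_ext _ _ _ (fun j => j.elim0) (by simp [b]), WidePullback.lift_base _ _ _ _⟩
    let σ : X ⟶ CohB1.ProjSpaceOver 0 X := mk X (specULiftZIsTerminal.from X ≫ pt0) (𝟙 X)
    have sq : IsPullback σ (specULiftZIsTerminal.from X) (pr X 0) pt0 := by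
      refine IsPullback.of_isLimit' ⟨pullback.lift_fst _ _ _⟩ (PullbackCone.IsLimit.mk _
        (fun s => s.fst ≫ CohB1.ProjSpaceOver.toBase 0 X) (fun s => ?_) (fun s => specULiftZIsTerminal.hom_ext _ _)
        fun s m h1 _ => ?_)
      · refine hom_ext' X _ _ ?_ ?_
        · rw [Category.assoc, Category.assoc, pullback.lift_fst, s.condition, ← Category.assoc, ← Category.assoc]
          congr 1
          exact specULiftZIsTerminal.hom_ext _ _
        · rw [Category.assoc]
          erw [pullback.lift_snd]
          rw [Category.comp_id]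
      · rw [← h1, Category.assoc]
        erw [pullback.lift_snd]
        rw [Category.comp_id]
    haveI : IsFinite σ := MorphismProperty.of_isPullback (P := @IsFinite) sq.flip inferInstance
    haveI : Surjective σ := MorphismProperty.of_isPullback (P := @Surjective) sq.flip inferInstance
    refine ⟨b ≫ σ, inferInstance, inferInstance, ?_⟩
    rw [Category.assoc]
    erw [pullback.lift_snd]
    exact Category.comp_id _
  | succ n ih =>
    obtain ⟨φ, hf, hs, hb⟩ := ih
    haveI := hf
    haveI := hs
    obtain ⟨ν, hνf, hνs, hνb⟩ := exists_step X n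
    haveI := hνf
    haveI := hνs
    let d : pow X (n + 1) ⟶ pow X n :=
      WidePullback.lift (WidePullback.base _) (fun j => WidePullback.π _ j.succ) (fun j => WidePullback.π_arrow _ j.succ)
    have sq : IsPullback (WidePullback.π (fun _ : Fin (n + 1) => CohB1.ProjSpaceOver.toBase 1 X) 0) d
        (CohB1.ProjSpaceOver.toBase 1 X) (WidePullback.base _) := by
      refine IsPullback.of_isLimit' ⟨by rw [WidePullback.π_arrow, WidePullback.lift_base]⟩ ?_
      refine PullbackCone.IsLimit.mk _
        (fun s => WidePullback.lift (s.snd ≫ WidePullback.base _)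
          (fun j => Fin.cases s.fst (fun l => s.snd ≫ WidePullback.π _ l) j)
          (fun j => Fin.cases s.condition (fun l => by
            show (s.snd ≫ WidePullback.π _ l) ≫ _ = _
            rw [Category.assoc, WidePullback.π_arrow]) j)) (fun s => ?_) (fun s => ?_) fun s m h1 h2 => ?_
      · exact WidePullback.lift_π _ _ _ _ _
      · refine WidePullback.hom_ext _ _ _ (fun l => ?_) ?_
        · rw [Category.assoc, WidePullback.lift_π, WidePullback.lift_π]; rfl
        · rw [Category.assoc, WidePullback.lift_base, WidePullback.lift_base]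
      · refine WidePullback.hom_ext _ _ _ (fun j => ?_) ?_
        · rw [WidePullback.lift_π]
          refine Fin.cases ?_ (fun l => ?_) j
          · exact h1
          · show m ≫ WidePullback.π _ l.succ = s.snd ≫ WidePullback.π _ l
            rw [← h2, Category.assoc, WidePullback.lift_π]
        · rw [WidePullback.lift_base, ← h2, Category.assoc, WidePullback.lift_base]
    let ψ := pullback.map (CohB1.ProjSpaceOver.toBase 1 X)
      (WidePullback.base (fun _ : Fin n => CohB1.ProjSpaceOver.toBase 1 X))
      (CohB1.ProjSpaceOver.toBase 1 X) (CohB1.ProjSpaceOver.toBase n X) (𝟙 _) φ (𝟙 X)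
      (by simp) (by rw [Category.comp_id, hb])
    haveI : IsFinite ψ := MorphismProperty.pullbackMap (P := @IsFinite) inferInstance inferInstance (by simp) hb.symm
    haveI : Surjective ψ := MorphismProperty.pullbackMap (P := @Surjective) inferInstance inferInstance (by simp) hb.symm
    refine ⟨sq.isoPullback.hom ≫ ψ ≫ ν, inferInstance, inferInstance, ?_⟩
    rw [Category.assoc, Category.assoc, hνb, ← Category.assoc ψ, pullback.lift_snd, Category.assoc, hb,
      ← Category.assoc, IsPullback.isoPullback_hom_snd, WidePullback.lift_base]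

end Groth.Agent.P1PowMap
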