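import Groth.Agent.SegreX.Basic
import Groth.Agent.ProjPt.Sections
import Groth.Agent.PnCoh.Finite.HomTwist
import Mathlib.AlgebraicGeometry.Morphisms.Affine

/-!
# Linear projections: morphisms into projective space by ratios of linear forms
-/

set_option autoImplicit false
set_option linter.style.haveILetI false
set_option linter.unusedSectionVars false
set_option backward.isDefEq.respectTransparency false
set_option backward.isDefEq.respectTransparency.types false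

universe u

open CategoryTheory CategoryTheory.Limits AlgebraicGeometry TopologicalSpace Opposite HomogeneousLocalization MvPolynomial
open Groth.Agent.PnCoh.Finite (D ratio rr rr_mul_rr ratio_self basicOpen_ratio)

noncomputable section

namespace Groth.Agent.P1PowMap

open Groth.Agent Groth.Agent.ProjPt Groth.Agent.SegreX

variable {R A : Type u} [CommRing R] [CommRing A] [Algebra R A] {𝒜 : ℕ → Submodule R A} [GradedAlgebra 𝒜]

/-- The value of `b / a` at a point avoiding `a = 0`. -/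
def val {T : Scheme.{u}} (q : T ⟶ Proj 𝒜) {a b : A} (ha : a ∈ 𝒜 1) (hb : b ∈ 𝒜 1)
    (h : ⊤ ≤ q ⁻¹ᵁ D 𝒜 a) : Γ(T, ⊤) :=
  q.appLE (D 𝒜 a) ⊤ h (ratio ha hb)

theorem val_self {T : Scheme.{u}} (q : T ⟶ Proj 𝒜) {a : A} (ha : a ∈ 𝒜 1) (h : ⊤ ≤ q ⁻¹ᵁ D 𝒜 a) :
    val q ha ha h = 1 := by
  rw [val, ratio_self, map_one]

theorem val_comp {T T' : Scheme.{u}} (g : T' ⟶ T) (q : T ⟶ Proj 𝒜) {a b : A} (ha : a ∈ 𝒜 1) (hb : b ∈ 𝒜 1)
    (h : ⊤ ≤ q ⁻¹ᵁ D 𝒜 a) (h' : ⊤ ≤ (g ≫ q) ⁻¹ᵁ D 𝒜 a) :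
    g.appTop (val q ha hb h) = val (g ≫ q) ha hb h' := by
  have e := Scheme.Hom.appLE_comp_appLE g q (D 𝒜 a) ⊤ ⊤ h le_top
  have e' : g.appLE ⊤ ⊤ le_top = g.appTop := (g.app_eq_appLE (U := ⊤)).symm
  rw [e'] at e
  exact ConcreteCategory.congr_hom e (ratio ha hb)

theorem val_congr {T : Scheme.{u}} {q q' : T ⟶ Proj 𝒜} (e : q = q') {a b : A} (ha : a ∈ 𝒜 1) (hb : b ∈ 𝒜 1)
    (h : ⊤ ≤ q ⁻¹ᵁ D 𝒜 a) (h' : ⊤ ≤ q' ⁻¹ᵁ D 𝒜 a) : val q ha hb h = val q' ha hb h' := by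
  subst e; rfl

theorem val_mul_val {T : Scheme.{u}} (q : T ⟶ Proj 𝒜) {a b c : A} (ha : a ∈ 𝒜 1) (hb : b ∈ 𝒜 1) (hc : c ∈ 𝒜 1)
    (h : ⊤ ≤ q ⁻¹ᵁ D 𝒜 a) (h' : ⊤ ≤ q ⁻¹ᵁ D 𝒜 b) :
    val q ha hb h * val q hb hc h' = val q ha hc h := by
  have hV : ⊤ ≤ q ⁻¹ᵁ (D 𝒜 a ⊓ D 𝒜 b) := le_inf h h'
  have k : ∀ {x y : A} (hx : x ∈ 𝒜 1) (hy : y ∈ 𝒜 1) (hh : ⊤ ≤ q ⁻¹ᵁ D 𝒜 x) (hle : D 𝒜 a ⊓ D 𝒜 b ≤ D 𝒜 x),
      val q hx hy hh = q.appLE (D 𝒜 a ⊓ D 𝒜 b) ⊤ hV (rr hx hy hle) := fun hx hy hh hle =>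
    (ConcreteCategory.congr_hom (q.map_appLE hV (homOfLE hle).op) (ratio hx hy)).symm
  rw [k ha hb h inf_le_left, k hb hc h' inf_le_right, k ha hc h inf_le_left, ← map_mul, rr_mul_rr]

/-- Values at a point given by coordinates. -/
theorem val_pt {T : Scheme.{u}} (f : A →+* Γ(T, ⊤)) {a b : A} (ha : a ∈ 𝒜 1) (hb : b ∈ 𝒜 1) (hu : IsUnit (f a))
    (h : ⊤ ≤ pt 𝒜 f ha one_pos hu ⁻¹ᵁ D 𝒜 a) :
    val (pt 𝒜 f ha one_pos hu) ha hb h * f a = f b := by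
  have e : ratio ha hb = (Proj.awayToSection 𝒜 a).hom (Away.mk 𝒜 ha 1 b (by rwa [one_smul])) := by
    refine Subtype.ext (funext fun x => HomogeneousLocalization.val_injective _ ?_)
    refine (PnCoh.Finite.ratio_val ha hb x).trans ?_
    erw [ProjectiveSpectrum.Proj.awayToSection_apply]
    rw [Away.val_mk, Localization.mk_eq_mk', Localization.mk_eq_mk', IsLocalization.map_mk']
    simp only [RingHom.id_apply, pow_one]
  rw [val, e, pt_appLE]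
  simpa using coordHom_mk_mul 𝒜 f hu ha 1 b (by rwa [one_smul])

variable {M : ℕ} {X : Scheme.{u}} (g : X ⟶ Proj 𝒜) {L : Fin (M + 1) → A} (hL : ∀ l, L l ∈ 𝒜 1)

/-- The member of the cover where the form `L l` does not vanish. -/
abbrev W (L : Fin (M + 1) → A) (l : Fin (M + 1)) : X.Opens := g ⁻¹ᵁ D 𝒜 (L l)

theorem top_le_W (l : Fin (M + 1)) : ⊤ ≤ ((W g L l).ι ≫ g) ⁻¹ᵁ D 𝒜 (L l) := by
  rw [Scheme.Hom.comp_preimage, Scheme.Opens.ι_preimage_self]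

/-- The local projection. -/
def piece (l : Fin (M + 1)) : (W g L l).toScheme ⟶ PZ.{u} M :=
  ptS (fun b => val ((W g L l).ι ≫ g) (hL l) (hL b) (top_le_W g l)) l (by rw [val_self]; exact isUnit_one)

theorem comp_piece {T : Scheme.{u}} (l : Fin (M + 1)) (a : T ⟶ (W g L l).toScheme)
    (h : ⊤ ≤ (a ≫ (W g L l).ι ≫ g) ⁻¹ᵁ D 𝒜 (L l)) :
    a ≫ piece g hL l =
      ptS (fun b => val (a ≫ (W g L l).ι ≫ g) (hL l) (hL b) h) l (by rw [val_self]; exact isUnit_one) := by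
  rw [piece, comp_ptS]
  congr 1
  funext b
  exact val_comp a _ (hL l) (hL b) _ _

theorem piece_compat {T : Scheme.{u}} (l l' : Fin (M + 1)) (a : T ⟶ (W g L l).toScheme)
    (b : T ⟶ (W g L l').toScheme) (e : a ≫ (W g L l).ι = b ≫ (W g L l').ι) :
    a ≫ piece g hL l = b ≫ piece g hL l' := by
  have ha : ⊤ ≤ (a ≫ (W g L l).ι ≫ g) ⁻¹ᵁ D 𝒜 (L l) := by
    rw [Scheme.Hom.comp_preimage]; exact a.preimage_mono (top_le_W g l)
  have hb : ⊤ ≤ (b ≫ (W g L l').ι ≫ g) ⁻¹ᵁ D 𝒜 (L l') := by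
    rw [Scheme.Hom.comp_preimage]; exact b.preimage_mono (top_le_W g l')
  have e' : a ≫ (W g L l).ι ≫ g = b ≫ (W g L l').ι ≫ g := by rw [← Category.assoc, e, Category.assoc]
  rw [comp_piece g hL l a ha, comp_piece g hL l' b hb]
  have hb' : ⊤ ≤ (a ≫ (W g L l).ι ≫ g) ⁻¹ᵁ D 𝒜 (L l') := by rw [e']; exact hb
  refine ptS_scale _ _ (val (a ≫ (W g L l).ι ≫ g) (hL l) (hL l') ha) (fun k => ?_) _ _ _ _
  rw [← val_congr e' (hL l') (hL k) hb' hb, val_mul_val]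

variable (hcov : ∀ x : X, ∃ l, g x ∈ D 𝒜 (L l))

include hcov in
theorem iSup_W : ⨆ l : ULift.{u} (Fin (M + 1)), W g L l.down = ⊤ :=
  top_le_iff.1 fun x _ => by
    obtain ⟨l, hl⟩ := hcov x
    exact Opens.mem_iSup.2 ⟨⟨l⟩, hl⟩

/-- The projection. -/
def proj : X ⟶ PZ.{u} M :=
  (X.openCoverOfIsOpenCover _ (iSup_W g hcov)).glueMorphisms (fun l => piece g hL l.down) fun x y =>
    piece_compat g hL x.down y.down _ _ pullback.condition

theorem ι_proj (l : Fin (M + 1)) : (W g L l).ι ≫ proj g hL hcov = piece g hL l :=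
  Scheme.Cover.ι_glueMorphisms (X.openCoverOfIsOpenCover _ (iSup_W g hcov)) _ _ ⟨l⟩

theorem proj_preimage (k : Fin (M + 1)) :
    proj g hL hcov ⁻¹ᵁ Proj.basicOpen (CohB1.polyGrading M (ULift.{u} ℤ)) (MvPolynomial.X k) = W g L k := by
  apply SetLike.coe_injective
  ext x
  obtain ⟨l, hl⟩ := hcov x
  let p : (W g L l).toScheme := ⟨x, hl⟩
  have hp : (W g L l).ι p = x := rfl
  have h1 : p ∈ ((W g L l).ι ≫ proj g hL hcov) ⁻¹ᵁ Proj.basicOpen (CohB1.polyGrading M (ULift.{u} ℤ)) (MvPolynomial.X k) ↔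
      p ∈ (W g L l).ι ⁻¹ᵁ W g L k := by
    rw [ι_proj, piece, ptS_preimage, val, Scheme.basicOpen_appLE, basicOpen_ratio (hL l) (hL k), Scheme.Hom.comp_preimage]
    exact ⟨fun h => h.2.2, fun h => ⟨trivial, hl, h⟩⟩
  exact h1

theorem isAffineHom_proj [IsAffineHom g] : IsAffineHom (proj g hL hcov) := by
  refine isAffineHom_of_forall_exists_isAffineOpen _ fun y => ?_
  obtain ⟨k, hk⟩ := exists_mem_chart y
  rw [range_chart] at hk
  refine ⟨_, hk, Proj.isAffineOpen_basicOpen _ _ (ProjPt.X_mem k) one_pos, ?_⟩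
  rw [proj_preimage]
  exact (Proj.isAffineOpen_basicOpen 𝒜 _ (hL k) one_pos).preimage g

/-- The projection on a point avoiding `L k = 0`. -/
theorem comp_proj {T : Scheme.{u}} (h : T ⟶ X) (k : Fin (M + 1)) (hk : ⊤ ≤ (h ≫ g) ⁻¹ᵁ D 𝒜 (L k)) :
    h ≫ proj g hL hcov = ptS (fun b => val (h ≫ g) (hL k) (hL b) hk) k (by rw [val_self]; exact isUnit_one) := by
  have hr : Set.range h ⊆ Set.range (W g L k).ι := by
    rintro _ ⟨t, rfl⟩
    rw [Scheme.Opens.range_ι]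
    exact hk (show t ∈ (⊤ : T.Opens) from trivial)
  let a := IsOpenImmersion.lift (W g L k).ι h hr
  have ha : a ≫ (W g L k).ι = h := IsOpenImmersion.lift_fac _ _ _
  have e : a ≫ (W g L k).ι ≫ g = h ≫ g := by rw [← Category.assoc, ha]
  conv_lhs => rw [← ha, Category.assoc, ι_proj]
  rw [comp_piece g hL k a (by rw [e]; exact hk)]
  congr 1
  funext b
  exact val_congr e _ _ _ _

end Groth.Agent.P1PowMap
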