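import Groth.Agent.P1PowMap.LinProj
import Groth.Agent.PnCoh.Chow.Proper
import Mathlib.FieldTheory.IsAlgClosed.AlgebraicClosure
import Mathlib.FieldTheory.IsAlgClosed.Basic
import Mathlib.AlgebraicGeometry.ResidueField
import Mathlib.AlgebraicGeometry.Morphisms.Proper

/-!
# Multiplication of binary forms as a morphism of projective spaces
-/

set_option autoImplicit false
set_option linter.style.haveILetI false
set_option linter.unusedSectionVars false
set_option backward.isDefEq.respectTransparency false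
set_option backward.isDefEq.respectTransparency.types false

universe u

open CategoryTheory CategoryTheory.Limits AlgebraicGeometry TopologicalSpace Opposite HomogeneousLocalization

noncomputable section

namespace Groth.Agent.P1PowMap

open Groth.Agent Groth.Agent.ProjPt Groth.Agent.SegreX

/-- The polynomial with given coefficients. -/
def polyOf {C : Type*} [CommSemiring C] {d : ℕ} (p : Fin (d + 1) → C) : Polynomial C :=
  ∑ a : Fin (d + 1), Polynomial.C (p a) * Polynomial.X ^ (a : ℕ)

theorem coeff_polyOf {C : Type*} [CommSemiring C] {d : ℕ} (p : Fin (d + 1) → C) (a : Fin (d + 1)) :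
    (polyOf p).coeff a = p a := by
  simp [polyOf, Polynomial.finsetSum_coeff, Polynomial.coeff_X_pow, Fin.val_inj]

theorem natDegree_polyOf_le {C : Type*} [CommSemiring C] {d : ℕ} (p : Fin (d + 1) → C) :
    (polyOf p).natDegree ≤ d :=
  Polynomial.natDegree_sum_le_of_forall_le _ _ fun a _ =>
    (Polynomial.natDegree_C_mul_X_pow_le _ _).trans (Nat.lt_succ_iff.1 a.2)

theorem polyOf_coeff {C : Type*} [CommSemiring C] {d : ℕ} (F : Polynomial C) (h : F.natDegree ≤ d) :
    polyOf (fun a : Fin (d + 1) => F.coeff a) = F := by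
  refine Polynomial.ext fun i => ?_
  by_cases hi : i < d + 1
  · exact coeff_polyOf _ (⟨i, hi⟩ : Fin (d + 1))
  · rw [Polynomial.coeff_eq_zero_of_natDegree_lt (lt_of_le_of_lt (natDegree_polyOf_le _) (by omega)),
      Polynomial.coeff_eq_zero_of_natDegree_lt (lt_of_le_of_lt h (by omega))]

theorem polyOf_map {C C' : Type*} [CommSemiring C] [CommSemiring C'] (f : C →+* C') {d : ℕ} (p : Fin (d + 1) → C) :
    (polyOf p).map f = polyOf (fun a => f (p a)) := by
  simp [polyOf, Polynomial.map_sum]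

variable (n m : ℕ)

/-- The indexing of the Segre coordinates. -/
def eNM : Fin (n * m + n + m + 1) ≃ Fin (n + 1) × Fin (m + 1) :=
  (finCongr (by ring)).trans finProdFinEquiv.symm

/-- The forms giving the coefficients of a product of two binary forms. -/
def form (l : Fin (n + m + 1)) : MvPolynomial (Fin (n * m + n + m + 1)) (ULift.{u} ℤ) :=
  ∑ k ∈ Finset.univ.filter (fun k => ((eNM n m k).1 : ℕ) + (eNM n m k).2 = l), MvPolynomial.X k

theorem form_mem (l : Fin (n + m + 1)) :
    form.{u} n m l ∈ CohB1.polyGrading (n * m + n + m) (ULift.{u} ℤ) 1 :=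
  Submodule.sum_mem _ fun k _ => ProjPt.X_mem k

theorem eval_form {C : Type u} [CommRing C] (p : Fin (n + 1) → C) (q : Fin (m + 1) → C) (l : Fin (n + m + 1)) :
    MvPolynomial.eval₂Hom (z0 C) (fun k => p (eNM n m k).1 * q (eNM n m k).2) (form.{u} n m l) =
      (polyOf p * polyOf q).coeff l := by
  classical
  rw [form, map_sum]
  simp only [MvPolynomial.eval₂Hom_X']
  simp only [polyOf, Finset.sum_mul_sum, Polynomial.finsetSum_coeff, ← Fintype.sum_prod_type']
  rw [← (eNM n m).sum_comp, Finset.sum_filter]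
  refine Finset.sum_congr rfl fun k _ => ?_
  rw [show Polynomial.C (p (eNM n m k).1) * Polynomial.X ^ ((eNM n m k).1 : ℕ) *
      (Polynomial.C (q (eNM n m k).2) * Polynomial.X ^ ((eNM n m k).2 : ℕ)) =
      Polynomial.C (p (eNM n m k).1 * q (eNM n m k).2) *
        Polynomial.X ^ (((eNM n m k).1 : ℕ) + (eNM n m k).2) by rw [map_mul, pow_add]; ring,
    Polynomial.coeff_C_mul_X_pow]
  exact if_congr eq_comm rfl rfl

theorem segre_coords {T : Scheme.{u}} {i : Fin (n + 1)} {j : Fin (m + 1)}
    (z : T ⟶ PP.{u} n m) (p : T ⟶ Spec (chartRing.{u} n i)) (q : T ⟶ Spec (chartRing.{u} m j))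
    (hp : z ≫ pullback.fst _ _ = p ≫ chart n i) (hq : z ≫ pullback.snd _ _ = q ≫ chart m j) :
    z ≫ segre (eNM n m) = loc (eNM n m) p q := by
  let w : T ⟶ pullback (specULiftZIsTerminal.from (Spec (chartRing.{u} n i)))
      (specULiftZIsTerminal.from (Spec (chartRing.{u} m j))) :=
    pullback.lift p q (specULiftZIsTerminal.hom_ext _ _)
  have hz : z = w ≫ chart2 (i, j) := by
    refine pullback.hom_ext ?_ ?_
    · rw [hp, Category.assoc, pullback.lift_fst, ← Category.assoc, pullback.lift_fst]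
    · rw [hq, Category.assoc, pullback.lift_snd, ← Category.assoc, pullback.lift_snd]
  rw [hz, Category.assoc, chart2_segre, comp_loc, pullback.lift_fst, pullback.lift_snd]

/-- The forms at a point with given coordinates. -/
theorem top_le_of_isUnit {T : Scheme.{u}} {i : Fin (n + 1)} {j : Fin (m + 1)}
    (z : T ⟶ PP.{u} n m) (p : T ⟶ Spec (chartRing.{u} n i)) (q : T ⟶ Spec (chartRing.{u} m j))
    (hp : z ≫ pullback.fst _ _ = p ≫ chart n i) (hq : z ≫ pullback.snd _ _ = q ≫ chart m j) (l : Fin (n + m + 1))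
    (hl : IsUnit ((polyOf (coords p) * polyOf (coords q)).coeff l)) :
    ⊤ ≤ (z ≫ segre (eNM n m)) ⁻¹ᵁ PnCoh.Finite.D (CohB1.polyGrading (n * m + n + m) (ULift.{u} ℤ)) (form n m l) := by
  rw [segre_coords n m z p q hp hq, loc, ptS, pt_preimage_basicOpen _ _ _ one_pos _ (form_mem n m l) one_pos]
  rw [Scheme.basicOpen_of_isUnit]
  show IsUnit (MvPolynomial.eval₂Hom (z0 _) (prodCoords (eNM n m) p q) (form n m l))
  rw [show prodCoords (eNM n m) p q = fun k => coords p (eNM n m k).1 * coords q (eNM n m k).2 from rfl, eval_form]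
  exact hl

theorem cover (x : PP.{u} n m) :
    ∃ l, segre (eNM n m) x ∈ PnCoh.Finite.D (CohB1.polyGrading (n * m + n + m) (ULift.{u} ℤ)) (form n m l) := by
  obtain ⟨⟨i, j⟩, w, rfl⟩ : ∃ (ij : Fin (n + 1) × Fin (m + 1)) (w : _), chart2 ij w = x :=
    let ⟨⟨b⟩, w, hw⟩ := SegreX.cover.exists_eq x; ⟨b, w, hw⟩
  let W' := pullback (specULiftZIsTerminal.from (Spec (chartRing.{u} n i)))
      (specULiftZIsTerminal.from (Spec (chartRing.{u} m j)))
  let K := W'.residueField w
  let a : Spec K ⟶ W' := W'.fromSpecResidueField w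
  let p := a ≫ pullback.fst _ _
  let q := a ≫ pullback.snd _ _
  let ψ : Γ(Spec K, ⊤) →+* K := (Scheme.ΓSpecIso K).hom.hom
  have hne : ∀ {d : ℕ} (s : Fin (d + 1) → Γ(Spec K, ⊤)) (i : Fin (d + 1)), s i = 1 →
      polyOf (fun a => ψ (s a)) ≠ 0 := fun s i hs h => by
    have := congrArg (fun F => Polynomial.coeff F i) h
    rw [coeff_polyOf, hs, map_one, Polynomial.coeff_zero] at this
    exact one_ne_zero this
  have hF : polyOf (fun a => ψ (coords p a)) * polyOf (fun b => ψ (coords q b)) ≠ 0 :=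
    mul_ne_zero (hne _ i (coords_self p)) (hne _ j (coords_self q))
  obtain ⟨l, hl⟩ : ∃ l : Fin (n + m + 1),
      (polyOf (fun a => ψ (coords p a)) * polyOf (fun b => ψ (coords q b))).coeff l ≠ 0 := by
    by_contra h
    push Not at h
    refine hF (Polynomial.ext fun d => ?_)
    rw [Polynomial.coeff_zero]
    by_cases hd : d < n + m + 1
    · exact h ⟨d, hd⟩
    · exact Polynomial.coeff_eq_zero_of_natDegree_lt (lt_of_le_of_lt
        (Polynomial.natDegree_mul_le.trans (add_le_add (natDegree_polyOf_le _) (natDegree_polyOf_le _))) (by omega))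
  have hu : IsUnit ((polyOf (coords p) * polyOf (coords q)).coeff l) := by
    have hψ : ψ ((polyOf (coords p) * polyOf (coords q)).coeff l) =
        (polyOf (fun a => ψ (coords p a)) * polyOf (fun b => ψ (coords q b))).coeff l := by
      rw [← Polynomial.coeff_map, Polynomial.map_mul, polyOf_map, polyOf_map]
    let e := (Scheme.ΓSpecIso K).commRingCatIsoToRingEquiv
    exact (isUnit_map_iff e _).1 (IsUnit.mk0 _ (by rw [← hψ] at hl; exact hl))
  have h := top_le_of_isUnit n m (a ≫ chart2 (i, j)) p q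
    (by simp [p, pullback.lift_fst]) (by simp [q, pullback.lift_snd]) l hu
  obtain ⟨o⟩ : Nonempty (Spec K) := ⟨IsLocalRing.closedPoint K⟩
  refine ⟨l, ?_⟩
  have := h (show o ∈ (⊤ : (Spec K).Opens) from trivial)
  have ho : a o = w := Scheme.fromSpecResidueField_apply w o
  rw [← ho]
  exact this

/-- Multiplication of binary forms. -/
def mult : PP.{u} n m ⟶ PZ.{u} (n + m) := proj (segre (eNM n m)) (form_mem n m) (cover n m)

theorem isFinite_mult : IsFinite (mult.{u} n m) := by
  haveI := isClosedImmersion_segre.{u} (eNM n m)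
  haveI : IsAffineHom (mult.{u} n m) := isAffineHom_proj _ _ _
  haveI hP : ∀ k, IsProper (specULiftZIsTerminal.from (PZ.{u} k)) := fun k => by
    rw [specULiftZIsTerminal.hom_ext (specULiftZIsTerminal.from (PZ.{u} k)) (CohB1.ProjSpace.toSpec k (ULift.{u} ℤ))]
    exact PnCoh.Chow.isProper_toSpec k _
  haveI := hP n
  haveI := hP m
  haveI : IsProper (mult.{u} n m ≫ specULiftZIsTerminal.from (PZ.{u} (n + m))) := by
    rw [specULiftZIsTerminal.hom_ext (mult.{u} n m ≫ specULiftZIsTerminal.from (PZ.{u} (n + m)))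
      (pullback.fst _ _ ≫ specULiftZIsTerminal.from (PZ.{u} n))]
    infer_instance
  haveI := hP (n + m)
  haveI : IsProper (mult.{u} n m) := IsProper.of_comp _ (specULiftZIsTerminal.from (PZ.{u} (n + m)))
  exact IsFinite.iff_isProper_and_isAffineHom.2 ⟨inferInstance, inferInstance⟩

theorem exists_dvd_natDegree {K : Type*} [Field K] [IsAlgClosed K] (F : Polynomial K) (hF : F ≠ 0) :
    ∀ d ≤ F.natDegree, ∃ P Q : Polynomial K, P.natDegree = d ∧ F = P * Q
  | 0, _ => ⟨1, F, Polynomial.natDegree_one, (one_mul _).symm⟩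
  | d + 1, hd => by
    obtain ⟨P, Q, hP, rfl⟩ := exists_dvd_natDegree F hF d (Nat.le_of_succ_le hd)
    obtain ⟨hP0, hQ0⟩ := mul_ne_zero_iff.1 hF
    rw [Polynomial.natDegree_mul hP0 hQ0, hP] at hd
    obtain ⟨r, hr⟩ := IsAlgClosed.exists_root Q fun h => by
      have := Polynomial.natDegree_eq_zero_iff_degree_le_zero.2 h.le
      omega
    obtain ⟨Q', rfl⟩ := Polynomial.dvd_iff_isRoot.2 hr
    refine ⟨P * (Polynomial.X - Polynomial.C r), Q', ?_, (mul_assoc _ _ _).symm⟩
    rw [Polynomial.natDegree_mul hP0 (Polynomial.X_sub_C_ne_zero r), hP, Polynomial.natDegree_X_sub_C]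

/-- A point of a standard chart with given coordinates. -/
theorem exists_chartPt {K : Type u} [Field K] {d : ℕ} (i : Fin (d + 1)) (v : Fin (d + 1) → K) (hv : v i = 1) :
    ∃ p : Spec (CommRingCat.of K) ⟶ Spec (chartRing.{u} d i),
      ∀ a, (Scheme.ΓSpecIso (CommRingCat.of K)).hom (coords p a) = v a := by
  have h1 : MvPolynomial.eval₂Hom (z0 K) v (MvPolynomial.X i) = 1 := by rw [MvPolynomial.eval₂Hom_X', hv]
  refine ⟨Spec.map (CommRingCat.ofHom (coordHom (CohB1.polyGrading d (ULift.{u} ℤ))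
    (MvPolynomial.eval₂Hom (z0 K) v) (t := MvPolynomial.X i) (by rw [h1]; exact isUnit_one))), fun a => ?_⟩
  rw [coords, ← CommRingCat.comp_apply, Category.assoc, Scheme.ΓSpecIso_naturality, Iso.inv_hom_id_assoc]
  exact (coordHom_crd _ i _ h1 a).trans (MvPolynomial.eval₂Hom_X' _ _ _)

theorem surjective_mult : Surjective (mult.{u} n m) := by
  refine ⟨fun y => ?_⟩
  let K := AlgebraicClosure ((PZ.{u} (n + m)).residueField y)
  let η : Spec (CommRingCat.of K) ⟶ PZ.{u} (n + m) :=
    Spec.map (CommRingCat.ofHom (algebraMap ((PZ.{u} (n + m)).residueField y)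
      (AlgebraicClosure ((PZ.{u} (n + m)).residueField y)))) ≫ (PZ.{u} (n + m)).fromSpecResidueField y
  obtain ⟨o⟩ : Nonempty (Spec (CommRingCat.of K)) := ⟨IsLocalRing.closedPoint K⟩
  have hη : ∀ o', η o' = y := fun o' => Scheme.fromSpecResidueField_apply y _
  obtain ⟨k, hk⟩ := exists_mem_chart y
  have hr : Set.range η ⊆ Set.range (chart (n + m) k) := by
    rintro _ ⟨o', rfl⟩
    rw [hη]; exact hk
  let r := IsOpenImmersion.lift (chart.{u} (n + m) k) η hr
  have hrη : r ≫ chart (n + m) k = η := IsOpenImmersion.lift_fac _ _ _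
  let ψ : Γ(Spec (CommRingCat.of K), ⊤) →+* K := (Scheme.ΓSpecIso (CommRingCat.of K)).hom.hom
  have hψ : Function.Bijective ψ := ConcreteCategory.bijective_of_isIso (Scheme.ΓSpecIso (CommRingCat.of K)).hom
  let F : Polynomial K := polyOf fun l => ψ (coords r l)
  have hFk : F.coeff k = 1 := by rw [coeff_polyOf, coords_self, map_one]
  have hF : F ≠ 0 := fun h => by rw [h, Polynomial.coeff_zero] at hFk; exact zero_ne_one hFk
  have hFd : F.natDegree ≤ n + m := natDegree_polyOf_le _
  obtain ⟨P, Q, hP, hPQ⟩ := exists_dvd_natDegree F hF (min F.natDegree n) (min_le_left _ _)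
  obtain ⟨hP0, hQ0⟩ := mul_ne_zero_iff.1 (hPQ ▸ hF)
  have hPn : P.natDegree ≤ n := hP.le.trans (min_le_right _ _)
  have hQm : Q.natDegree ≤ m := by
    have h2 := Polynomial.natDegree_mul hP0 hQ0
    rw [← hPQ] at h2
    omega
  let i : Fin (n + 1) := ⟨P.natDegree, by omega⟩
  let j : Fin (m + 1) := ⟨Q.natDegree, by omega⟩
  have hcP : P.coeff i ≠ 0 := Polynomial.leadingCoeff_ne_zero.2 hP0
  have hcQ : Q.coeff j ≠ 0 := Polynomial.leadingCoeff_ne_zero.2 hQ0
  obtain ⟨p, hp⟩ := exists_chartPt i (fun a => (P.coeff i)⁻¹ * P.coeff a) (inv_mul_cancel₀ hcP)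
  obtain ⟨q, hq⟩ := exists_chartPt j (fun b => (Q.coeff j)⁻¹ * Q.coeff b) (inv_mul_cancel₀ hcQ)
  let z : Spec (CommRingCat.of K) ⟶ PP.{u} n m :=
    pullback.lift (p ≫ chart n i) (q ≫ chart m j) (specULiftZIsTerminal.hom_ext _ _)
  let c : K := (P.coeff i)⁻¹ * (Q.coeff j)⁻¹
  have hc : c ≠ 0 := mul_ne_zero (inv_ne_zero hcP) (inv_ne_zero hcQ)
  have hv : ∀ l : Fin (n + m + 1), ψ ((polyOf (coords p) * polyOf (coords q)).coeff l) = c * ψ (coords r l) := fun l => by
    rw [← Polynomial.coeff_map, Polynomial.map_mul, polyOf_map, polyOf_map]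
    have e1 : polyOf (fun a => ψ (coords p a)) = Polynomial.C (P.coeff i)⁻¹ * P := by
      rw [show (fun a : Fin (n + 1) => ψ (coords p a)) = fun a : Fin (n + 1) => (Polynomial.C (P.coeff i)⁻¹ * P).coeff (a : ℕ) from
        funext fun a => (hp a).trans (Polynomial.coeff_C_mul _).symm]
      exact polyOf_coeff _ ((Polynomial.natDegree_C_mul_le _ _).trans hPn)
    have e2 : polyOf (fun b => ψ (coords q b)) = Polynomial.C (Q.coeff j)⁻¹ * Q := by
      rw [show (fun b : Fin (m + 1) => ψ (coords q b)) = fun b : Fin (m + 1) => (Polynomial.C (Q.coeff j)⁻¹ * Q).coeff (b : ℕ) from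
        funext fun b => (hq b).trans (Polynomial.coeff_C_mul _).symm]
      exact polyOf_coeff _ ((Polynomial.natDegree_C_mul_le _ _).trans hQm)
    rw [e1, e2, show Polynomial.C (P.coeff i)⁻¹ * P * (Polynomial.C (Q.coeff j)⁻¹ * Q) = Polynomial.C c * (P * Q) by
      simp only [c, map_mul]; ring, ← hPQ, Polynomial.coeff_C_mul, coeff_polyOf]
  let e := (Scheme.ΓSpecIso (CommRingCat.of K)).commRingCatIsoToRingEquiv
  have hu : IsUnit ((polyOf (coords p) * polyOf (coords q)).coeff k) :=
    (isUnit_map_iff e _).1 (IsUnit.mk0 _ (by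
      show ψ _ ≠ 0
      rw [hv, coords_self, map_one, mul_one]
      exact hc))
  have hfst : z ≫ pullback.fst _ _ = p ≫ chart n i := pullback.lift_fst _ _ _
  have hsnd : z ≫ pullback.snd _ _ = q ≫ chart m j := pullback.lift_snd _ _ _
  have htop := top_le_of_isUnit n m z p q hfst hsnd k hu
  refine ⟨z o, ?_⟩
  rw [← Scheme.Hom.comp_apply, mult, comp_proj _ _ _ z k htop]
  refine Eq.trans (congrArg (fun φ : _ ⟶ PZ.{u} (n + m) => φ o) ?_) (hη o)
  rw [← hrη, chart_eq_ptS r]
  congr 1
  funext l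
  apply hψ.1
  have key : val (z ≫ segre (eNM n m)) (form_mem n m k) (form_mem n m l) htop *
      (polyOf (coords p) * polyOf (coords q)).coeff k = (polyOf (coords p) * polyOf (coords q)).coeff l := by
    let f := MvPolynomial.eval₂Hom (z0 Γ(Spec (CommRingCat.of K), ⊤)) (prodCoords (eNM n m) p q)
    have hfk : IsUnit (f (form n m k)) := by
      show IsUnit (MvPolynomial.eval₂Hom _ (fun a => coords p (eNM n m a).1 * coords q (eNM n m a).2) (form n m k))
      rw [eval_form]; exact hu
    have e0 : z ≫ segre (eNM n m) = pt _ f (form_mem n m k) one_pos hfk := by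
      rw [segre_coords n m z p q hfst hsnd]
      exact pt_indep _ f _ one_pos _ (form_mem n m k) one_pos hfk
    have h0 : ⊤ ≤ pt _ f (form_mem n m k) one_pos hfk ⁻¹ᵁ PnCoh.Finite.D _ (form n m k) := by rw [← e0]; exact htop
    rw [val_congr e0 (form_mem n m k) (form_mem n m l) htop h0, ← eval_form n m, ← eval_form n m]
    exact val_pt f (form_mem n m k) (form_mem n m l) hfk h0
  have := congrArg ψ key
  rw [map_mul, hv, hv, coords_self, map_one, mul_one, mul_comm] at this
  exact mul_left_cancel₀ hc this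

end Groth.Agent.P1PowMap
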