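import Groth.Agent.P1PowMap.LinProj
import Groth.Agent.PicGlue.ProjSpaceBC
import Groth.Agent.S10915
import Groth.Agent.S4717
import Groth.Agent.PnCoh.Chow.Proper

/-!
# Finite surjective linear projections of projective schemes
-/

set_option autoImplicit false
set_option linter.style.haveILetI false
set_option linter.unusedSectionVars false
set_option backward.isDefEq.respectTransparency false
set_option backward.isDefEq.respectTransparency.types false

universe u

open CategoryTheory CategoryTheory.Limits AlgebraicGeometry TopologicalSpace MvPolynomial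

noncomputable section

namespace Groth.Agent.P1PowMap

open Groth.Agent Groth.Agent.VarDim.ProjN Groth.Agent.ProjPt Groth.Agent.SegreX

variable {k : Type u} [Field k] {n : ℕ}

theorem exists_forms_avoiding [Infinite k] (Z : Set (ProjectiveSpectrum (CohB1.polyGrading n k))) (hZ : IsClosed Z)
    (d : ℕ) (hd : topologicalKrullDim Z ≤ (d : WithBot ℕ∞)) :
    ∀ j, ∃ h : Fin j → MvPolynomial (Fin (n + 1)) k, (∀ i, h i ∈ CohB1.polyGrading n k 1) ∧
      ∀ x ∈ Z, (∀ i, h i ∈ (pp x).asIdeal) → j + pdim x ≤ d := by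
  classical
  let I := (ProjectiveSpectrum.vanishingIdeal Z)
  have hIZ : ∀ x, I.toIdeal ≤ (pp x).asIdeal → x ∈ Z := fun x hx => by
    rw [← hZ.closure_eq, ← ProjectiveSpectrum.zeroLocus_vanishingIdeal_eq_closure]
    exact hx
  have hZI : ∀ x ∈ Z, I.toIdeal ≤ (pp x).asIdeal := fun x hx =>
    ProjectiveSpectrum.subset_zeroLocus_vanishingIdeal _ Z hx
  intro j
  induction j with
  | zero =>
    refine ⟨Fin.elim0, fun i => i.elim0, fun x hx _ => ?_⟩
    have := (le_topologicalKrullDim hZ hx).trans hd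
    rw [Nat.zero_add]
    exact_mod_cast this
  | succ j ih =>
    obtain ⟨h, hh, hco⟩ := ih
    let J := I.toIdeal ⊔ Ideal.span (Set.range h)
    have hJ : J.IsHomogeneous (CohB1.polyGrading n k) :=
      I.isHomogeneous.sup (Ideal.homogeneous_span _ _ (by rintro _ ⟨i, rfl⟩; exact ⟨1, hh i⟩))
    obtain ⟨l, hl, hlP⟩ := S10915.exists_avoiding k n {P | P ∈ J.minimalPrimes ∧ P ≠ vertex k n}
      (J.finite_minimalPrimes_of_isNoetherianRing.subset fun P hP => hP.1)
      (fun P hP => ⟨hP.1.1.1, minimalPrimes_isHomogeneous hJ hP.1, hP.2⟩)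
    refine ⟨Fin.snoc h l, fun i => ?_, fun x hx hxh => ?_⟩
    · refine Fin.lastCases ?_ (fun i => ?_) i
      · rw [Fin.snoc_last]; exact hl
      · rw [Fin.snoc_castSucc]; exact hh i
    have hJx : J ≤ (pp x).asIdeal := sup_le (hZI x hx) (Ideal.span_le.2 (by
      rintro _ ⟨i, rfl⟩
      simpa using hxh i.castSucc))
    obtain ⟨Q, hQ, hQx⟩ := Ideal.exists_minimalPrimes_le hJx
    have hQv : Q ≠ vertex k n := fun h => (pp_lt_vertexPoint x).not_ge (show vertex k n ≤ (pp x).asIdeal from h ▸ hQx)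
    obtain ⟨c, hc⟩ := exists_point_minimal hJ hQ hQv
    have hcJ : J ≤ (pp c).asIdeal := hc ▸ hQ.1.2
    have hcx : c < x := lt_of_le_not_ge (pp_le_pp.1 (hc ▸ hQx)) fun hle => hlP Q ⟨hQ, hQv⟩ (hc ▸
      pp_le_pp.2 hle (by simpa using hxh (Fin.last j)))
    have h1 := hco c (hIZ c (le_sup_left.trans hcJ)) fun i => hcJ (Ideal.mem_sup_right (Ideal.subset_span ⟨i, rfl⟩))
    have := pdim_strictAnti hcx
    omega

theorem eq_univ_of_dim {d : ℕ} (Z : Set (ProjectiveSpectrum (CohB1.polyGrading d k))) (hZ : IsClosed Z)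
    (hd : topologicalKrullDim Z = (d : WithBot ℕ∞)) : Z = Set.univ := by
  obtain ⟨x, hx, hxd⟩ := exists_pdim_eq hZ hd
  have h := height_add_coheight_pp (pp x)
  rw [coheight_pp_eq, hxd] at h
  have h0 : Order.height (pp x) = 0 := by
    obtain ⟨H, hH⟩ := ENat.ne_top_iff_exists.1 (ne_top_of_le_ne_top (ENat.natCast_ne_top (d + 1))
      (le_self_add.trans_eq h))
    rw [← hH] at h ⊢
    have : H + (d + 1) = d + 1 := by exact_mod_cast h
    exact_mod_cast (by omega : H = 0)
  refine Set.eq_univ_of_forall fun y => mem_of_le hZ hx (pp_le_pp.1 ?_)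
  exact (Order.height_eq_zero.1 h0 (show (⟨⊥, Ideal.isPrime_bot⟩ : PrimeSpectrum (MvPolynomial (Fin (d + 1)) k)) ≤ pp x
    from (bot_le : (⊥ : Ideal _) ≤ (pp x).asIdeal)) : (pp x).asIdeal ≤ ⊥).trans bot_le

theorem exists_finite_surjective [Infinite k] (X : Scheme.{u}) (ι : X ⟶ CohB1.ProjSpace n k) [IsClosedImmersion ι]
    (d : ℕ) (hd : topologicalKrullDim X = (d : WithBot ℕ∞)) :
    ∃ π : X ⟶ CohB1.ProjSpace d k, π ≫ CohB1.ProjSpace.toSpec d k = ι ≫ CohB1.ProjSpace.toSpec n k ∧
      IsFinite π ∧ Surjective π := by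
  have hemb := ι.isClosedEmbedding
  let Z : Set (ProjectiveSpectrum (CohB1.polyGrading n k)) := Set.range ι
  have hZd : topologicalKrullDim Z = (d : WithBot ℕ∞) := by
    rw [← hd]
    exact (IsHomeomorph.topologicalKrullDim_eq _ hemb.isEmbedding.toHomeomorph.isHomeomorph).symm
  obtain ⟨L, hL, hLZ⟩ := exists_forms_avoiding Z hemb.isClosed_range d hZd.le (d + 1)
  have hcov : ∀ x : X, ∃ l, ι x ∈ Proj.basicOpen (CohB1.polyGrading n k) (L l) := by
    intro x
    by_contra h
    push Not at h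
    have := hLZ (ι x) ⟨x, rfl⟩ fun i => by
      exact not_not.1 (h i : ¬ (L i ∉ (pp (ι x)).asIdeal))
    omega
  let p : X ⟶ PZ.{u} d := proj (R := k) ι hL hcov
  haveI : IsAffineHom p := isAffineHom_proj ι hL hcov
  obtain ⟨e, he⟩ := PicGlue.exists_projSpace_iso d k
  let π' : X ⟶ CohB1.ProjSpaceOver d (Spec (CommRingCat.of k)) :=
    pullback.lift p (ι ≫ CohB1.ProjSpace.toSpec n k) (specULiftZIsTerminal.hom_ext _ _)
  let π : X ⟶ CohB1.ProjSpace d k := π' ≫ e.inv
  have hπ : π ≫ CohB1.ProjSpace.toSpec d k = ι ≫ CohB1.ProjSpace.toSpec n k := by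
    rw [← he, Category.assoc, e.inv_hom_id_assoc]
    exact pullback.lift_snd _ _ _
  haveI := PnCoh.Chow.isProper_toSpec n k
  haveI := PnCoh.Chow.isProper_toSpec d k
  haveI : IsProper (π ≫ CohB1.ProjSpace.toSpec d k) := by rw [hπ]; infer_instance
  haveI : IsProper π := IsProper.of_comp _ (CohB1.ProjSpace.toSpec d k)
  haveI : IsAffineHom π' := by
    haveI : IsAffineHom (π' ≫ pullback.fst (CohB1.ProjSpace.toSpec d (ULift.{u} ℤ))
        (specULiftZIsTerminal.from (Spec (CommRingCat.of k)))) := by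
      rw [show π' ≫ pullback.fst _ _ = p from pullback.lift_fst _ _ _]; infer_instance
    exact IsAffineHom.of_comp π' (pullback.fst (CohB1.ProjSpace.toSpec d (ULift.{u} ℤ))
      (specULiftZIsTerminal.from (Spec (CommRingCat.of k))))
  haveI hfin : IsFinite π := IsFinite.iff_isProper_and_isAffineHom.2 ⟨inferInstance, inferInstance⟩
  refine ⟨π, hπ, hfin, ⟨?_⟩⟩
  haveI : IsLocallyNoetherian X := LocallyOfFiniteType.isLocallyNoetherian (π ≫ CohB1.ProjSpace.toSpec d k)
  haveI : IsLocallyNoetherian (CohB1.ProjSpace d k) :=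
    LocallyOfFiniteType.isLocallyNoetherian (CohB1.ProjSpace.toSpec d k)
  have h := (S4717.result π).1
  rw [hd] at h
  have huniv := eq_univ_of_dim (k := k) (Set.range π.base) π.isClosedMap.isClosed_range h.symm
  exact Set.range_eq_univ.1 huniv

end Groth.Agent.P1PowMap
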