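import Groth.Agent.P1PowMap.NoetherProj
import Groth.Agent.S3572
import Groth.Agent.Lib.AmpleEmbed
import Groth.Agent.H9Twist.Lcm
import Groth.Agent.VeryAmple.Main

/-!
# Finite surjective projections pulling back `O(1)` to `O(1)`
-/

set_option linter.style.haveILetI false
set_option linter.unusedSectionVars false
set_option backward.isDefEq.respectTransparency false
set_option backward.isDefEq.respectTransparency.types false
set_option maxHeartbeats 1000000

universe u

open CategoryTheory CategoryTheory.Limits AlgebraicGeometry TopologicalSpace MvPolynomial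

noncomputable section

namespace Groth.Agent.P1PowMap

open Groth.Agent Groth.Agent.VarDim.ProjN Groth.Agent.ProjPt Groth.Agent.SegreX

variable {k : Type u} [Field k] {n : ℕ}

theorem exists_finite_surjective_twist [Infinite k] (X : Scheme.{u}) (ι : X ⟶ CohB1.ProjSpace n k)
    [IsClosedImmersion ι] (d : ℕ) (hd : topologicalKrullDim X = (d : WithBot ℕ∞)) :
    ∃ π : X ⟶ CohB1.ProjSpace d k, π ≫ CohB1.ProjSpace.toSpec d k = ι ≫ CohB1.ProjSpace.toSpec n k ∧
      IsFinite π ∧ Function.Surjective π.base ∧ Nonempty ((Scheme.Modules.pullback π).obj (Twist.twistProjSpace d k 1) ≅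
        (Scheme.Modules.pullback ι).obj (Twist.twistProjSpace n k 1)) := by
  have hemb := ι.isClosedEmbedding
  let Z : Set (ProjectiveSpectrum (CohB1.polyGrading n k)) := Set.range ι
  have hZd : topologicalKrullDim Z = (d : WithBot ℕ∞) := by
    rw [← hd]
    exact (IsHomeomorph.topologicalKrullDim_eq _ hemb.isEmbedding.toHomeomorph.isHomeomorph).symm
  obtain ⟨L, hL, hLZ⟩ := exists_forms_avoiding Z hemb.isClosed_range d hZd.le (d + 1)
  have hcov : ∀ x : X, ∃ l, ι x ∈ Proj.basicOpen (CohB1.polyGrading n k) (L l) := by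
    intro x
    by_contra h
    push Not at h
    have := hLZ (ι x) ⟨x, rfl⟩ fun i => by
      exact not_not.1 (h i : ¬ (L i ∉ (pp (ι x)).asIdeal))
    omega
  let 𝒜 := CohB1.polyGrading n k
  let O1 := Twist.twistProjSpace n k 1
  have hO1 : PicF.IsInvertible O1 :=
    PnCoh.Finite.isInvertible_twist (fun j : ULift.{u} (Fin (n + 1)) => MvPolynomial.X j.down)
      (fun j => ProjPt.X_mem j.down) (by
        have h := Proj.iSup_basicOpen_eq_top 𝒜 (fun j : Fin (n + 1) => MvPolynomial.X j) (SegreX.irrelevant_le_span n k)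
        refine top_le_iff.1 fun y _ => ?_
        obtain ⟨i, hi⟩ := Opens.mem_iSup.1 (h.ge (trivial : y ∈ (⊤ : (Proj 𝒜).Opens)))
        exact Opens.mem_iSup.2 ⟨⟨i⟩, hi⟩) 1
  have hcov' : (⨆ h : 𝒜 1, Proj.basicOpen 𝒜 (h : MvPolynomial (Fin (n + 1)) k)) = ⊤ := eq_top_iff.2 fun y _ => by
    obtain ⟨i, hi⟩ := Opens.mem_iSup.1 ((Proj.iSup_basicOpen_eq_top 𝒜 (fun j : Fin (n + 1) => MvPolynomial.X j)
      (SegreX.irrelevant_le_span n k)).ge (trivial : y ∈ (⊤ : (Proj 𝒜).Opens)))
    exact Opens.mem_iSup.2 ⟨⟨MvPolynomial.X i, ProjPt.X_mem i⟩, hi⟩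
  let σ : Fin (d + 1) → Γ(O1, ⊤) := fun l => Twist.globalOf 𝒜 ⟨L l, hL l⟩
  let s : Fin (d + 1) → Γ((Scheme.Modules.pullback ι).obj O1, ⊤) := fun l => ProjUP.pullSec ι O1 (σ l)
  have hloc : ∀ l, H23.TrivBasic.locus (s l) = ι ⁻¹ᵁ Proj.basicOpen 𝒜 (L l) := fun l => by
    rw [← H9Twist.genLocus_globalOf (hL l) hcov']
    exact H23.TrivBasic.locus_pullElt hO1 ι (σ l)
  have hgen : ProjUP.GeneratedBy ((Scheme.Modules.pullback ι).obj O1) s :=
    VeryAmple.generatedBy_of_locus s fun x => by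
      obtain ⟨l, hl⟩ := hcov x
      exact ⟨l, (hloc l).ge hl⟩
  obtain ⟨π, hπ, τ, hτ⟩ := S3572.result d (ι ≫ CohB1.ProjSpace.toSpec n k) _
    (PicClLib.isInvertible_pullback ι hO1) s hgen
  haveI := PnCoh.Chow.isProper_toSpec n k
  haveI := PnCoh.Chow.isProper_toSpec d k
  haveI : IsProper (π ≫ CohB1.ProjSpace.toSpec d k) := by rw [hπ]; infer_instance
  haveI : IsProper π := IsProper.of_comp _ (CohB1.ProjSpace.toSpec d k)
  haveI : IsAffineHom π := by
    refine isAffineHom_of_forall_exists_isAffineOpen _ fun y => ?_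
    obtain ⟨i, hi⟩ := Opens.mem_iSup.1 ((Proj.iSup_basicOpen_eq_top (CohB1.polyGrading d k)
      (fun j : Fin (d + 1) => MvPolynomial.X j) (SegreX.irrelevant_le_span d k)).ge
      (trivial : y ∈ (⊤ : (CohB1.ProjSpace d k).Opens)))
    refine ⟨_, hi, Proj.isAffineOpen_basicOpen _ _ (ProjPt.X_mem i) one_pos, ?_⟩
    rw [AmpleEmbed.preimage_chart π τ i (hτ i)]
    exact (hloc i).symm ▸ (Proj.isAffineOpen_basicOpen 𝒜 _ (hL i) one_pos).preimage ι
  haveI hfin : IsFinite π := IsFinite.iff_isProper_and_isAffineHom.2 ⟨inferInstance, inferInstance⟩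
  refine ⟨π, hπ, hfin, ?_, ⟨τ⟩⟩
  haveI : IsLocallyNoetherian X := LocallyOfFiniteType.isLocallyNoetherian (π ≫ CohB1.ProjSpace.toSpec d k)
  haveI : IsLocallyNoetherian (CohB1.ProjSpace d k) :=
    LocallyOfFiniteType.isLocallyNoetherian (CohB1.ProjSpace.toSpec d k)
  have h := (S4717.result π).1
  rw [hd] at h
  exact Set.range_eq_univ.1 (eq_univ_of_dim (k := k) (Set.range π.base) π.isClosedMap.isClosed_range h.symm)

end Groth.Agent.P1PowMap
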